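import Groth.Agent.FlatMorWeight.UnramifiedEtale
import Groth.Agent.FEtLib.EqLocus
import Groth.Agent.HenselLib.UnramifiedPoints
import Groth.Agent.FEtFF.EtaleGeomUnibranchScheme

/-! Rational sections of unramified morphisms at geometrically unibranch points. -/

set_option autoImplicit false
set_option backward.isDefEq.respectTransparency.types false
set_option linter.style.haveILetI false

universe u

open AlgebraicGeometry CategoryTheory Limits TopologicalSpace

namespace Groth.Agent.RatSect10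

open FlatMorWeight

variable {X Y : Scheme.{u}}

/-- The scheme is integral near a unibranch point. -/
theorem exists_integral_nhd [IsReduced Y]
    (hcomp : LocallyFinite (fun Z : ↥(irreducibleComponents ↥Y) => (Z : Set ↥Y)))
    (y : Y) (hy : CAlg2.IsUnibranch (Y.presheaf.stalk y)) :
    ∃ (W : Y.Opens) (η : Y), y ∈ W ∧ η ∈ W ∧ IsIntegral W.toScheme ∧ ∀ w ∈ W, η ⤳ w := by
  obtain ⟨η, hη, Z, hZ, hgen⟩ := exists_isMaximalPt_specializes y
  haveI := hy.1
  have hN : (nilradical (Y.presheaf.stalk y)).IsPrime := (Ideal.Quotient.isDomain_iff_prime _).1 hy.1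
  let ζ₀ : Spec (Y.presheaf.stalk y) := ⟨nilradical _, hN⟩
  have hζ : ∀ z : Y, z ⤳ y → Y.fromSpecStalk y ζ₀ ⤳ z := fun z hz => by
    obtain ⟨w, rfl⟩ := (Scheme.range_fromSpecStalk (X := Y) (x := y)).ge hz
    exact ((PrimeSpectrum.le_iff_specializes ζ₀ w).1 (nilradical_le_prime w.asIdeal)).map
      (Y.fromSpecStalk y).continuous
  let T : Set Y := ⋃ C : {C : ↥(irreducibleComponents ↥Y) // y ∉ (C : Set Y)}, (C.1 : Set Y)
  have hT : IsClosed T := LocallyFinite.isClosed_iUnion (hcomp.comp_injective Subtype.val_injective)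
    fun C => isClosed_of_mem_irreducibleComponents _ C.1.2
  let W : Y.Opens := ⟨Tᶜ, hT.isOpen_compl⟩
  have hyW : y ∈ W := fun h => by
    obtain ⟨C, hC⟩ := Set.mem_iUnion.1 h
    exact C.2 hC
  have hall : ∀ w ∈ W, η ⤳ w := fun w hw => by
    obtain ⟨η', hη', Z', hZ', hgen'⟩ := exists_isMaximalPt_specializes w
    have hy' : y ∈ Z' := by
      by_contra h
      exact hw (Set.mem_iUnion.2 ⟨⟨⟨Z', hZ'⟩, h⟩, hgen'.specializes_iff_mem.1 hη'⟩)
    rwa [← isMaximalPt_of_isGenericPoint hZ' hgen' _ (hζ _ (hgen'.specializes hy')),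
      isMaximalPt_of_isGenericPoint hZ hgen _ (hζ _ hη)] at hη'
  have hηW : η ∈ W := hη.mem_open W.2 hyW
  haveI : IrreducibleSpace W.toScheme := by
    haveI : Nonempty W.toScheme := ⟨⟨y, hyW⟩⟩
    haveI : PreirreducibleSpace W.toScheme := by
      refine ⟨fun u' v hu hv ⟨a, _, ha⟩ ⟨b, _, hb⟩ => ⟨⟨η, hηW⟩, trivial, ?_, ?_⟩⟩
      · exact ((subtype_specializes_iff _ _).2 (hall a.1 a.2)).mem_open hu ha
      · exact ((subtype_specializes_iff _ _).2 (hall b.1 b.2)).mem_open hv hb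
    exact { toNonempty := inferInstance }
  exact ⟨W, η, hyW, hηW, isIntegral_of_irreducibleSpace_of_isReduced _, hall⟩

variable (f : X ⟶ Y) {U : Y.Opens} {u : U.toScheme ⟶ X}

theorem isOpenImmersion_of_section [LocallyOfFiniteType f] [FormallyUnramified f] (hu : u ≫ f = U.ι) :
    IsOpenImmersion u := by
  let D : MorphismProperty Scheme.{u} := MorphismProperty.diagonal @IsOpenImmersion
  haveI : MorphismProperty.HasOfPostcompProperty @IsOpenImmersion D :=
    MorphismProperty.hasOfPostcompProperty_iff_le_diagonal.2 le_rfl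
  exact MorphismProperty.of_postcomp (W := @IsOpenImmersion) (W' := D) u f
    (FormallyUnramified.isOpenImmersion_diagonal f) (by rw [hu]; infer_instance)

/-- Two points with values in a scheme, landing in the image of a section and with the same image below, agree. -/
theorem eq_of_range_subset [IsOpenImmersion u] (hu : u ≫ f = U.ι) {T : Scheme.{u}} (a b : T ⟶ X)
    (ha : Set.range a ⊆ Set.range u) (hb : Set.range b ⊆ Set.range u) (h : a ≫ f = b ≫ f) : a = b := by
  rw [← IsOpenImmersion.lift_fac u a ha, ← IsOpenImmersion.lift_fac u b hb] at h ⊢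
  rw [Category.assoc, Category.assoc, hu, cancel_mono U.ι] at h
  rw [h]

/-- A rational section extends across a geometrically unibranch point in whose fibre its closure has a point. -/
theorem exists_section_nhd [IsReduced Y]
    (hcomp : LocallyFinite (fun Z : ↥(irreducibleComponents ↥Y) => (Z : Set ↥Y)))
    [IsSeparated f] [LocallyOfFiniteType f] [FormallyUnramified f]
    (hu : u ≫ f = U.ι) (hU : Dense (U : Set ↥Y)) (y : Y) (hy : CAlg2.IsGeomUnibranch (Y.presheaf.stalk y))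
    (x : X) (hxy : f x = y) (hx : x ∈ closure (Set.range u)) :
    ∃ (V : Y.Opens) (v : (V : Scheme.{u}) ⟶ X), v ≫ f = V.ι ∧
      Y.homOfLE (inf_le_left : U ⊓ V ≤ U) ≫ u = Y.homOfLE (inf_le_right : U ⊓ V ≤ V) ≫ v ∧
      ∃ h : y ∈ V, v ⟨y, h⟩ = x := by
  classical
  haveI := isOpenImmersion_of_section f hu
  obtain ⟨W, η, hyW, hηW, hint, hall⟩ := exists_integral_nhd hcomp y hy.1
  haveI := hint
  have hηU : η ∈ U := by
    obtain ⟨w, hwW, hwU⟩ := hU.inter_open_nonempty W W.2 ⟨y, hyW⟩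
    exact (hall w hwW).mem_open U.2 hwU
  let ξ : X := u ⟨η, hηU⟩
  have hfu : ∀ a : U.toScheme, f (u a) = a.1 := fun a => by
    rw [← Scheme.Hom.comp_apply, hu]; rfl
  have hxW : x ∈ f ⁻¹ᵁ W := show f x ∈ W from hxy ▸ hyW
  have hξx : ξ ⤳ x := by
    rw [specializes_iff_mem_closure]
    refine closure_minimal ?_ isClosed_closure ((f ⁻¹ᵁ W).2.inter_closure ⟨hxW, hx⟩)
    rintro _ ⟨haW, a, rfl⟩
    refine specializes_iff_mem_closure.1 (Specializes.map ((subtype_specializes_iff _ _).2 ?_) u.continuous)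
    exact hall a.1 (hfu a ▸ haW)
  -- the morphism is étale near `x`
  obtain ⟨X₁, hxX₁, hX₁W, hX₁⟩ : ∃ X₁ : X.Opens, x ∈ X₁ ∧ X₁ ≤ f ⁻¹ᵁ W ∧ Etale (X₁.ι ≫ f) := by
    have hgen : W.ι (genericPoint W.toScheme) = η := by
      have h1 : genericPoint W.toScheme ⤳ (⟨η, hηW⟩ : W.toScheme) := genericPoint_specializes _
      have h2 : (⟨η, hηW⟩ : W.toScheme) ⤳ genericPoint W.toScheme :=
        (subtype_specializes_iff _ _).2 (hall _ (genericPoint W.toScheme).2)
      exact congrArg Subtype.val (h1.antisymm h2).eq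
    let x' : (f ⁻¹ᵁ W).toScheme := ⟨x, hxW⟩
    have hunib : CAlg2.IsGeomUnibranch (W.toScheme.presheaf.stalk ((f ∣_ W) x')) := by
      haveI : IsDomain (Y.presheaf.stalk y) := by
        haveI := hy.1.1
        have h0 : nilradical (Y.presheaf.stalk y) = ⊥ := nilradical_eq_zero _
        exact (RingEquiv.quotientBot (Y.presheaf.stalk y)).symm.trans (Ideal.quotEquivOfEq h0.symm)
          |>.toMulEquiv.isDomain
      have he : W.ι ((f ∣_ W) x') = y := by
        rw [← Scheme.Hom.comp_apply, morphismRestrict_ι, Scheme.Hom.comp_apply]; exact hxy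
      exact (FEtFF.isGeomUnibranch_of_ringEquiv
        ((Y.presheaf.stalkCongr (.of_eq he.symm) ≪≫
          (W.stalkIso ((f ∣_ W) x')).symm).commRingCatIsoToRingEquiv) hy).2
    obtain ⟨V₀, hxV₀, hV₀⟩ := etale_nhd_of_geomUnibranch (f ∣_ W) x' hunib
      ⟨⟨ξ, hξx.mem_open (f ⁻¹ᵁ W).2 hxW⟩, (subtype_specializes_iff _ _).2 hξx, W.ι.isOpenEmbedding.injective (by
        rw [hgen, ← Scheme.Hom.comp_apply, morphismRestrict_ι, Scheme.Hom.comp_apply]
        exact hfu _)⟩
      (by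
        haveI : FormallyUnramified (f ∣_ W) := IsZariskiLocalAtTarget.restrict ‹_› W
        exact FormallyUnramified.stalkMap _ _)
    refine ⟨(f ⁻¹ᵁ W).ι ''ᵁ V₀, ⟨x', hxV₀, rfl⟩, Scheme.Opens.ι_image_le _ _, ?_⟩
    have e : ((f ⁻¹ᵁ W).ι ''ᵁ V₀).ι ≫ f = ((f ⁻¹ᵁ W).ι.isoImage V₀).inv ≫ (V₀.ι ≫ (f ∣_ W)) ≫ W.ι := by
      rw [Category.assoc, morphismRestrict_ι, ← reassoc_of% Scheme.Hom.isoImage_hom_ι, Iso.inv_hom_id_assoc]
    rw [e]
    haveI := hV₀
    infer_instance
  haveI := hX₁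
  -- remove the other points over the generic point
  obtain ⟨W', hW', hyW', hW'W⟩ := exists_isAffineOpen_mem_and_subset hyW
  obtain ⟨N, hN, hxN, hNle⟩ := exists_isAffineOpen_mem_and_subset
    (x := x) (U := X₁ ⊓ f ⁻¹ᵁ W') ⟨hxX₁, show f x ∈ W' from hxy ▸ hyW'⟩
  have hNf : N ≤ f ⁻¹ᵁ W' := fun z hz => (hNle hz).2
  have hmax : IsMaximalPt η := fun z hz => by
    have hzW : z ∈ W := hz.mem_open W.2 hηW
    exact (hz.antisymm (hall z hzW)).eq
  haveI : FormallyUnramified (N.ι ≫ f) :=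
    MorphismProperty.comp_mem (W := @FormallyUnramified) _ _ (inferInstance : FormallyUnramified N.ι) ‹_›
  haveI : LocallyQuasiFinite (N.ι ≫ f) := HenselLib.UnramifiedPoints.locallyQuasiFinite_of_unramified _
  have hfin : {z ∈ (N : Set X) | f z = η}.Finite := by
    haveI : IsAffine N.toScheme := hN
    haveI : IsAffine W'.toScheme := hW'
    by_cases hη' : η ∈ W'
    · haveI : LocallyQuasiFinite (f.resLE W' N hNf) := by
        haveI : LocallyQuasiFinite (f.resLE W' N hNf ≫ W'.ι) := by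
          rw [Scheme.Hom.resLE_comp_ι]; infer_instance
        exact LocallyQuasiFinite.of_comp _ W'.ι
      refine (((f.resLE W' N hNf).finite_preimage_singleton ⟨η, hη'⟩).image N.ι).subset ?_
      rintro z ⟨hz, hfz⟩
      refine ⟨⟨z, hz⟩, Subtype.ext ?_, rfl⟩
      show W'.ι (f.resLE W' N hNf ⟨z, hz⟩) = η
      rw [← Scheme.Hom.comp_apply, Scheme.Hom.resLE_comp_ι]
      exact hfz
    · refine Set.Finite.subset Set.finite_empty ?_
      rintro z ⟨hz, hfz⟩
      exact hη' (hfz ▸ hNf hz)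
  let F : Set X := {z ∈ (N : Set X) | f z = η} \ {ξ}
  let X₂ : X.Opens := ⟨(N : Set X) ∩ (⋃ z ∈ F, closure {z})ᶜ,
    N.2.inter ((hfin.sdiff).isClosed_biUnion fun _ _ => isClosed_closure).isOpen_compl⟩
  have hxX₂ : x ∈ X₂ := by
    refine ⟨hxN, fun h => ?_⟩
    obtain ⟨z, ⟨⟨hzN, hzη⟩, hzξ⟩, hzx⟩ := Set.mem_iUnion₂.1 h
    have hz₁ : z ∈ X₁ := (hNle hzN).1
    have := eq_of_specializes_of_etale (X₁.ι ≫ f) (v := ⟨x, hxX₁⟩) (v₁ := ⟨z, hz₁⟩)
      (v₂ := ⟨ξ, hξx.mem_open X₁.2 hxX₁⟩) (by rw [Scheme.Hom.comp_apply]; exact (congrArg (fun t =>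
        CAlg2.IsGeomUnibranch (Y.presheaf.stalk t)) hxy).mpr hy)
      ((subtype_specializes_iff _ _).2 (specializes_iff_mem_closure.2 hzx)) ((subtype_specializes_iff _ _).2 hξx)
      (by rw [Scheme.Hom.comp_apply]; exact hzη.symm ▸ hmax)
      (by rw [Scheme.Hom.comp_apply]; exact (hfu ⟨η, hηU⟩).symm ▸ hmax)
    exact hzξ (congrArg Subtype.val this)
  have honly : ∀ z : X₂.toScheme, f z.1 = η → z.1 = ξ := fun z hz => by
    by_contra h
    exact z.2.2 (Set.mem_biUnion (x := z.1) ⟨⟨z.2.1, hz⟩, h⟩ (subset_closure rfl))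
  have hle : X₂ ≤ X₁ := fun z hz => (hNle hz.1).1
  let h : X₂.toScheme ⟶ Y := X₂.ι ≫ f
  haveI : Etale h := by
    show Etale (X₂.ι ≫ f)
    rw [← X.homOfLE_ι hle, Category.assoc]
    infer_instance
  haveI : IsSeparated h := inferInstanceAs (IsSeparated (X₂.ι ≫ f))
  have hwX₂ : ∀ z : X₂.toScheme, h z ∈ W := fun z => by
    rw [Scheme.Hom.comp_apply]; exact hX₁W (hle z.2)
  haveI : UniversallyInjective h := by
    rw [UniversallyInjective.iff_diagonal]
    refine ⟨fun p => ?_⟩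
    obtain ⟨w, hwp, hwη⟩ := Flat.generalizingMap (pullback.fst h h ≫ h) (a := p) (b := η) (by
      rw [Scheme.Hom.comp_apply]; exact hall _ (hwX₂ _))
    let k := (pullback h h).fromSpecResidueField w
    have hw' : ∀ q : pullback h h ⟶ X₂.toScheme, q ≫ h = pullback.fst h h ≫ h →
        Set.range (k ≫ q ≫ X₂.ι) ⊆ Set.range u := by
      rintro q hq _ ⟨t, rfl⟩
      refine ⟨⟨η, hηU⟩, ?_⟩
      rw [Scheme.Hom.comp_apply, Scheme.fromSpecResidueField_apply, Scheme.Hom.comp_apply]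
      refine (honly (q w) ?_).symm
      have : f (q w).1 = (q ≫ h) w := by rw [Scheme.Hom.comp_apply, Scheme.Hom.comp_apply]; rfl
      rw [this, hq]; exact hwη
    have heq : k ≫ pullback.fst h h = k ≫ pullback.snd h h := by
      rw [← cancel_mono X₂.ι, Category.assoc, Category.assoc]
      refine eq_of_range_subset f hu _ _ (hw' _ rfl) (hw' _ pullback.condition.symm) ?_
      simp only [Category.assoc]
      exact congrArg (k ≫ ·) pullback.condition
    have hk : (k ≫ pullback.fst h h) ≫ pullback.diagonal h = k := by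
      apply pullback.hom_ext <;> simp [heq]
    have hwd : w ∈ Set.range (pullback.diagonal h) := by
      refine ⟨(k ≫ pullback.fst h h) (IsLocalRing.closedPoint _), ?_⟩
      rw [← Scheme.Hom.comp_apply, hk, Scheme.fromSpecResidueField_apply]
    exact hwp.mem_closed (pullback.diagonal h).isClosedMap.isClosed_range hwd
  haveI := FEtLib.isOpenImmersion_of_etale_universallyInjective h
  let v : h.opensRange.toScheme ⟶ X := h.isoOpensRange.inv ≫ X₂.ι
  have hvf : v ≫ f = h.opensRange.ι := by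
    rw [Category.assoc]; exact h.isoOpensRange_inv_comp
  have hvh : ∀ z : X₂.toScheme, v ⟨h z, ⟨z, rfl⟩⟩ = z.1 := fun z => by
    have h1 : h.isoOpensRange.hom z = ⟨h z, ⟨z, rfl⟩⟩ := h.opensRange.ι.isOpenEmbedding.injective (by
      rw [← Scheme.Hom.comp_apply, Scheme.Hom.isoOpensRange_hom_ι]; rfl)
    rw [← h1, ← Scheme.Hom.comp_apply, Iso.hom_inv_id_assoc]
    rfl
  have hyV : y ∈ h.opensRange := ⟨⟨x, hxX₂⟩, by rw [Scheme.Hom.comp_apply]; exact hxy⟩
  refine ⟨h.opensRange, v, hvf, ?_, hyV, ?_⟩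
  · have hVW : h.opensRange ≤ W := by rintro _ ⟨z, rfl⟩; exact hwX₂ z
    have hηV : η ∈ h.opensRange := (hall y hyW).mem_open h.opensRange.2 hyV
    let T : Y.Opens := U ⊓ h.opensRange
    let η' : T.toScheme := ⟨η, hηU, hηV⟩
    haveI : IsDominant (T.toScheme.fromSpecResidueField η') := by
      refine ⟨?_⟩
      rw [DenseRange, Scheme.range_fromSpecResidueField]
      intro t
      exact specializes_iff_mem_closure.1 ((subtype_specializes_iff _ _).2 (hall t.1 (hVW t.2.2)))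
    refine ext_of_isDominant_of_isSeparated f ?_ (T.toScheme.fromSpecResidueField η') ?_
    · simp only [Category.assoc, hu, hvf, Scheme.homOfLE_ι]
    refine eq_of_range_subset f hu _ _ ?_ ?_ ?_
    · rintro _ ⟨t, rfl⟩
      rw [Scheme.Hom.comp_apply, Scheme.Hom.comp_apply]
      exact ⟨_, rfl⟩
    · rintro _ ⟨t, rfl⟩
      refine ⟨⟨η, hηU⟩, ?_⟩
      rw [Scheme.Hom.comp_apply, Scheme.fromSpecResidueField_apply, Scheme.Hom.comp_apply]
      obtain ⟨z, hz⟩ := hηV
      have h2 : Y.homOfLE (inf_le_right : T ≤ h.opensRange) η' = ⟨h z, ⟨z, rfl⟩⟩ :=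
        Subtype.ext ((Scheme.homOfLE_apply _ η').trans hz.symm)
      rw [h2, hvh]
      exact (honly z ((Scheme.Hom.comp_apply _ _ z).symm.trans hz)).symm
    · simp only [Category.assoc, hu, hvf, Scheme.homOfLE_ι]
  · obtain ⟨z, hz⟩ : ∃ z : X₂.toScheme, z.1 = x := ⟨⟨x, hxX₂⟩, rfl⟩
    have : (⟨y, hyV⟩ : h.opensRange.toScheme) = ⟨h z, ⟨z, rfl⟩⟩ := Subtype.ext (by
      show y = h z
      rw [Scheme.Hom.comp_apply]; exact (congrArg f hz).trans hxy |>.symm)
    rw [this, hvh, hz]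

end Groth.Agent.RatSect10
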